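import Groth.Agent.H40.DG.BaseRestrict
import Groth.Agent.H53.Desc.AffDD

/-!
# Effectivity of affine descent data along a faithfully flat morphism of affine schemes
-/

set_option autoImplicit false
set_option backward.isDefEq.respectTransparency.types false
universe u

open CategoryTheory CategoryTheory.Limits AlgebraicGeometry

namespace Groth.Agent.H40.DG

open Desc Groth.Agent.H40.DQ Groth.Agent.H53.Desc

theorem exists_isQuot_of_isAffine {X S : Scheme.{u}} (p : X ⟶ S) [IsAffine X] [IsAffine S]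
    [Flat p] [Surjective p] (D : Desc.SchDD p) [IsAffine D.obj.left] :
    ∃ (M : Scheme.{u}) (q : M ⟶ S) (m : D.obj.left ⟶ M), IsAffine M ∧ IsQuot D q m := by
  letI : Algebra Γ(S, ⊤) Γ(X, ⊤) := p.appTop.hom.toAlgebra
  letI : Algebra Γ(X, ⊤) Γ(D.obj.left, ⊤) := D.obj.hom.appTop.hom.toAlgebra
  letI : Algebra Γ(S, ⊤) Γ(D.obj.left, ⊤) :=
    ((algebraMap Γ(X, ⊤) Γ(D.obj.left, ⊤)).comp (algebraMap Γ(S, ⊤) Γ(X, ⊤))).toAlgebra
  haveI : IsScalarTower Γ(S, ⊤) Γ(X, ⊤) Γ(D.obj.left, ⊤) :=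
    IsScalarTower.of_algebraMap_eq (fun _ => rfl)
  haveI : Module.FaithfullyFlat Γ(S, ⊤) Γ(X, ⊤) :=
    (Flat.flat_and_surjective_iff_faithfullyFlat_of_isAffine (f := p)).mp ⟨inferInstance, inferInstance⟩
  let eS : S ≅ Spec (CommRingCat.of Γ(S, ⊤)) := S.isoSpec
  let eX : X ≅ Spec (CommRingCat.of Γ(X, ⊤)) := X.isoSpec
  let eV : D.obj.left ≅ Spec (CommRingCat.of Γ(D.obj.left, ⊤)) := D.obj.left.isoSpec
  have nX : eX.hom ≫ pMap Γ(S, ⊤) Γ(X, ⊤) = p ≫ eS.hom := Scheme.isoSpec_hom_naturality p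
  have nV : eV.hom ≫ aMap Γ(X, ⊤) Γ(D.obj.left, ⊤) = D.obj.hom ≫ eX.hom :=
    Scheme.isoSpec_hom_naturality D.obj.hom
  have nX' : pMap Γ(S, ⊤) Γ(X, ⊤) ≫ eS.inv = eX.inv ≫ p := Scheme.isoSpec_inv_naturality p
  have nV' : aMap Γ(X, ⊤) Γ(D.obj.left, ⊤) ≫ eX.inv = eV.inv ≫ D.obj.hom :=
    Scheme.isoSpec_inv_naturality D.obj.hom
  -- compatibility of the hypotheses
  have hcompat : ∀ {T : Scheme.{u}} (v : T ⟶ Spec (CommRingCat.of Γ(D.obj.left, ⊤)))
      (x : T ⟶ Spec (CommRingCat.of Γ(X, ⊤))),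
      v ≫ aMap Γ(X, ⊤) Γ(D.obj.left, ⊤) ≫ pMap Γ(S, ⊤) Γ(X, ⊤) = x ≫ pMap Γ(S, ⊤) Γ(X, ⊤) →
      ((v ≫ eV.inv) ≫ D.obj.hom) ≫ p = (x ≫ eX.inv) ≫ p := by
    intro T v x h
    simp only [Category.assoc]
    rw [← reassoc_of% nV', ← nX', reassoc_of% h]
  let DA : AffDD Γ(S, ⊤) Γ(X, ⊤) Γ(D.obj.left, ⊤) :=
    { Φ := fun v x h => tr D (v ≫ eV.inv) (x ≫ eX.inv) (hcompat v x h) ≫ eV.hom
      Φ_over := by
        intro T v x h
        rw [Category.assoc, nV, tr_hom_assoc, Category.assoc, Iso.inv_hom_id, Category.comp_id]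
      Φ_natural := by
        intro T T' g v x h h'
        rw [← Category.assoc, precomp_tr]
        congr 1
      Φ_self := by
        intro T v h
        rw [tr_self' D (v ≫ eV.inv) _ (by
          rw [Category.assoc, Category.assoc, nV']), Category.assoc, Iso.inv_hom_id,
          Category.comp_id]
      Φ_comp := by
        intro T v x₁ x₂ h₁ h₂ h₃
        congr 1
        have h₂' : (tr D (v ≫ eV.inv) (x₁ ≫ eX.inv) (hcompat v x₁ h₁) ≫ D.obj.hom) ≫ p =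
            (x₂ ≫ eX.inv) ≫ p := by
          rw [tr_hom]
          have := hcompat v x₂ h₃
          rw [← this]
          exact (hcompat v x₁ h₁).symm
        refine Eq.trans (tr_congr D ?_ rfl _ h₂') (tr_tr D _ _ _ _ h₂')
        rw [Category.assoc, Iso.hom_inv_id, Category.comp_id] }
  have sq := DA.isPullback_eMap
  refine ⟨Spec (CommRingCat.of DA.descAlg), DA.bMap ≫ eS.inv, eV.hom ≫ DA.eMap, inferInstance, ?_⟩
  apply isQuot_of_isPullback
  · refine sq.of_iso eV.symm eX.symm (Iso.refl _) eS.symm ?_ ?_ ?_ ?_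
    · exact nV'
    · simp
    · exact nX'
    · simp
  · intro T v x₁ h
    have h' : (v ≫ eV.hom) ≫ aMap Γ(X, ⊤) Γ(D.obj.left, ⊤) ≫ pMap Γ(S, ⊤) Γ(X, ⊤) =
        (x₁ ≫ eX.hom) ≫ pMap Γ(S, ⊤) Γ(X, ⊤) := by
      rw [Category.assoc, reassoc_of% nV, nX, Category.assoc, nX]
      simp only [Category.assoc] at h
      rw [reassoc_of% h]
    have key := DA.Φ_eMap (v ≫ eV.hom) (x₁ ≫ eX.hom) h'
    have e : DA.Φ (v ≫ eV.hom) (x₁ ≫ eX.hom) h' = tr D v x₁ h ≫ eV.hom := by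
      change tr D ((v ≫ eV.hom) ≫ eV.inv) ((x₁ ≫ eX.hom) ≫ eX.inv) _ ≫ eV.hom = _
      congr 1
      exact tr_congr D (by rw [Category.assoc, Iso.hom_inv_id, Category.comp_id])
        (by rw [Category.assoc, Iso.hom_inv_id, Category.comp_id]) _ _
    rw [e] at key
    simpa only [Category.assoc] using key

end Groth.Agent.H40.DG
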