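import Groth.Agent.H40.DG.Main
import Groth.Agent.H40.DG.Affine
import Mathlib.AlgebraicGeometry.Morphisms.UniversallyInjective

/-!
# Descent data along a flat, surjective, quasi-compact, universally injective morphism are effective
-/

set_option autoImplicit false
set_option backward.isDefEq.respectTransparency.types false
universe u

open CategoryTheory CategoryTheory.Limits AlgebraicGeometry

namespace Groth.Agent.H40.DG

open Desc Groth.Agent.H40.DQ

variable {X S : Scheme.{u}} {p : X ⟶ S}

/-- the diagonal section of the relation. -/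
noncomputable def diagR (D : Desc.SchDD p) : D.obj.left ⟶ RL D :=
  pullback.lift (𝟙 _) D.obj.hom (by rw [Category.id_comp])

@[reassoc (attr := simp)]
theorem diagR_fst (D : Desc.SchDD p) : diagR D ≫ pullback.fst (D.obj.hom ≫ p) p = 𝟙 _ :=
  pullback.lift_fst _ _ _

@[reassoc (attr := simp)]
theorem diagR_tmor (D : Desc.SchDD p) : diagR D ≫ tmor D = 𝟙 _ := by
  unfold diagR
  rw [lift_tmor D (𝟙 _) D.obj.hom (by rw [Category.id_comp])]
  exact tr_self' D _ _ (Category.id_comp _).symm _

/-- if `p` is universally injective, source and target agree on points of the relation. -/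
theorem tmor_eq_fst_of_universallyInjective [UniversallyInjective p] (D : Desc.SchDD p)
    (r : RL D) : tmor D r = pullback.fst (D.obj.hom ≫ p) p r := by
  haveI : UniversallyInjective (pullback.fst (D.obj.hom ≫ p) p) :=
    MorphismProperty.pullback_fst (P := @UniversallyInjective) _ _ inferInstance
  have h1 : diagR D (pullback.fst (D.obj.hom ≫ p) p r) = r := by
    apply (pullback.fst (D.obj.hom ≫ p) p).injective
    rw [← Scheme.Hom.comp_apply, diagR_fst]
    rfl
  conv_lhs => rw [← h1]
  rw [← Scheme.Hom.comp_apply, diagR_tmor]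
  rfl

theorem isStable_of_universallyInjective [UniversallyInjective p] (D : Desc.SchDD p)
    (A : Set D.obj.left) : IsStable D A := by
  intro r hr
  rw [tmor_eq_fst_of_universallyInjective]
  exact hr

theorem isAffineHom_of_universallyInjective [Flat p] [Surjective p] [QuasiCompact p]
    [UniversallyInjective p] : IsAffineHom p := by
  have hh : IsHomeomorph p :=
    isHomeomorph_iff_isQuotientMap_injective.mpr ⟨Flat.isQuotientMap_of_surjective p, p.injective⟩
  exact isAffineHom_of_isInducing p hh.isInducing hh.isClosedEmbedding.isClosed_range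

variable [Flat p] [Surjective p] [QuasiCompact p]

/-- an affine stable open mapping into the preimage of an affine open of `S` with affine preimage
in `X` is a chart. -/
theorem isChart_of_isAffineOpen (D : Desc.SchDD p) (W : D.obj.left.Opens) (hW : IsAffineOpen W)
    (hst : IsStable D (W : Set D.obj.left)) (S₀ : S.Opens) (hS₀ : IsAffineOpen S₀)
    (hX₀ : IsAffineOpen (p ⁻¹ᵁ S₀)) (hle : W ≤ D.obj.hom ⁻¹ᵁ (p ⁻¹ᵁ S₀)) : IsChart D W := by
  refine ⟨hst, ?_⟩
  have sq : IsPullback (p ⁻¹ᵁ S₀).ι (p ∣_ S₀) p S₀.ι := (isPullback_morphismRestrict p S₀).flip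
  let a₀ : W.toScheme ⟶ (p ⁻¹ᵁ S₀).toScheme :=
    IsOpenImmersion.lift (p ⁻¹ᵁ S₀).ι (W.ι ≫ D.obj.hom) (by
      rw [Scheme.Opens.range_ι]
      rintro _ ⟨w, rfl⟩
      rw [Scheme.Hom.comp_apply]
      exact hle w.2)
  have ha : a₀ ≫ (p ⁻¹ᵁ S₀).ι = (subDD D W.ι (stableMono_of_isStable W hst)).obj.hom :=
    IsOpenImmersion.lift_fac _ _ _
  haveI : IsAffine (p ⁻¹ᵁ S₀).toScheme := hX₀
  haveI : IsAffine S₀.toScheme := hS₀
  haveI : Flat (p ∣_ S₀) := MorphismProperty.of_isPullback (P := @Flat) sq inferInstance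
  haveI : Surjective (p ∣_ S₀) := MorphismProperty.of_isPullback (P := @Surjective) sq inferInstance
  haveI : IsAffine (baseDD sq (subDD D W.ι (stableMono_of_isStable W hst)) a₀ ha).obj.left := hW
  obtain ⟨M, q, m, -, hq⟩ := exists_isQuot_of_isAffine (p ∣_ S₀)
    (baseDD sq (subDD D W.ι (stableMono_of_isStable W hst)) a₀ ha)
  exact ⟨M, q ≫ S₀.ι, m, isQuot_of_base hq⟩

/-- descent data along a flat, surjective, quasi-compact and universally injective morphism are
effective. -/
theorem exists_effective_of_universallyInjective [UniversallyInjective p] (D : Desc.SchDD p) :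
    ∃ U : Over S, Nonempty ((Desc.toDD p).obj U ≅ D) := by
  haveI : IsAffineHom p := isAffineHom_of_universallyInjective
  apply exists_effective_of_covers
  intro v
  obtain ⟨_, ⟨S₀, hS₀, rfl⟩, hs, -⟩ :=
    S.isBasis_affineOpens.exists_subset_of_mem_open (Set.mem_univ (p (D.obj.hom v))) isOpen_univ
  have hX₀ : IsAffineOpen (p ⁻¹ᵁ S₀) := hS₀.preimage p
  have hv : v ∈ D.obj.hom ⁻¹ᵁ (p ⁻¹ᵁ S₀) := hs
  obtain ⟨_, ⟨W, hW, rfl⟩, hvW, hWle⟩ :=
    D.obj.left.isBasis_affineOpens.exists_subset_of_mem_open hv (D.obj.hom ⁻¹ᵁ (p ⁻¹ᵁ S₀)).isOpen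
  exact ⟨⟨W, isChart_of_isAffineOpen D W hW (isStable_of_universallyInjective D _) S₀ hS₀ hX₀ hWle⟩,
    hvW⟩

end Groth.Agent.H40.DG
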