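import Groth.Agent.H40.DG.QAffine
import Groth.Agent.H40.DG.AffineHom
import Groth.Agent.H6.QuasiAffineHom

/-!
# Descent data quasi-affine over `X` are effective (fpqc descent for quasi-affine morphisms)
-/

set_option autoImplicit false
set_option backward.isDefEq.respectTransparency.types false
universe u

open CategoryTheory CategoryTheory.Limits AlgebraicGeometry

namespace Groth.Agent.H40.DG

open Desc Groth.Agent.H40.DQ Groth.Agent.H6.QuasiAffineHom

variable {X S : Scheme.{u}}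

/-- the case of an affine base. -/
theorem exists_isQuot_of_quasiAffine_of_isAffine (p : X ⟶ S) [IsAffine S] [Flat p] [Surjective p]
    [QuasiCompact p] (D : Desc.SchDD p) (hD : P D.obj.hom) :
    ∃ (M : Scheme.{u}) (q : M ⟶ S) (m : D.obj.left ⟶ M), IsQuot D q m := by
  haveI : CompactSpace X := (quasiCompact_iff_compactSpace p).mp inferInstance
  obtain ⟨X', c, hX', hc1, hc2⟩ := exists_affine_flat_surjective X
  have hcov : Presieve.singleton (c ≫ p) ∈ Scheme.fpqcPrecoverage S :=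
    Scheme.Hom.singleton_mem_fpqcPrecoverage (c ≫ p)
  have hP' : P (pullback.snd D.obj.hom c) := P.pullback_snd _ _ hD
  haveI : (pullback D.obj.hom c).IsQuasiAffine :=
    (HasAffineProperty.iff_of_isAffine (P := P) (Q := Q)).mp hP'
  haveI : (pullDD p c D).obj.left.IsQuasiAffine :=
    inferInstanceAs (pullback D.obj.hom c).IsQuasiAffine
  obtain ⟨M, q, m', -, hq'⟩ := exists_isQuot_of_isQuasiAffine (c ≫ p) (pullDD p c D)
  obtain ⟨e'⟩ := hq'.nonempty_iso
  obtain ⟨e⟩ := nonempty_iso_of_pullDD p c hcov D (Over.mk q) e'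
  exact ⟨M, q, _, isQuot_of_iso (Over.mk q) e⟩

variable {p : X ⟶ S} [Flat p] [Surjective p] [QuasiCompact p]

theorem isChart_preimage_of_quasiAffine (D : Desc.SchDD p) (hD : P D.obj.hom) (S₀ : S.Opens)
    (hS₀ : IsAffineOpen S₀) : IsChart D (D.obj.hom ⁻¹ᵁ (p ⁻¹ᵁ S₀)) := by
  have hst := isStable_preimage D S₀
  refine ⟨hst, ?_⟩
  have sq : IsPullback (p ⁻¹ᵁ S₀).ι (p ∣_ S₀) p S₀.ι := (isPullback_morphismRestrict p S₀).flip
  have sqa : IsPullback (D.obj.hom ⁻¹ᵁ (p ⁻¹ᵁ S₀)).ι (D.obj.hom ∣_ (p ⁻¹ᵁ S₀)) D.obj.hom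
      (p ⁻¹ᵁ S₀).ι := (isPullback_morphismRestrict D.obj.hom (p ⁻¹ᵁ S₀)).flip
  have ha : (D.obj.hom ∣_ (p ⁻¹ᵁ S₀)) ≫ (p ⁻¹ᵁ S₀).ι =
      (subDD D (D.obj.hom ⁻¹ᵁ (p ⁻¹ᵁ S₀)).ι (stableMono_of_isStable _ hst)).obj.hom := sqa.w.symm
  haveI : IsAffine S₀.toScheme := hS₀
  haveI : Flat (p ∣_ S₀) := MorphismProperty.of_isPullback (P := @Flat) sq inferInstance
  haveI : Surjective (p ∣_ S₀) := MorphismProperty.of_isPullback (P := @Surjective) sq inferInstance
  haveI : QuasiCompact (p ∣_ S₀) :=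
    MorphismProperty.of_isPullback (P := @QuasiCompact) sq inferInstance
  have hP₀ : P (D.obj.hom ∣_ (p ⁻¹ᵁ S₀)) := MorphismProperty.of_isPullback (P := P) sqa hD
  obtain ⟨M, q, m, hq⟩ := exists_isQuot_of_quasiAffine_of_isAffine (p ∣_ S₀)
    (baseDD sq (subDD D (D.obj.hom ⁻¹ᵁ (p ⁻¹ᵁ S₀)).ι (stableMono_of_isStable _ hst))
      (D.obj.hom ∣_ (p ⁻¹ᵁ S₀)) ha) hP₀
  exact ⟨M, q ≫ S₀.ι, m, isQuot_of_base hq⟩

/-- **fpqc descent for quasi-affine morphisms**: a descent datum relative to a flat, surjective,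
quasi-compact morphism whose underlying scheme is quasi-affine over `X` is effective. -/
theorem exists_effective_of_quasiAffine (D : Desc.SchDD p) (hD : P D.obj.hom) :
    ∃ U : Over S, Nonempty ((Desc.toDD p).obj U ≅ D) := by
  apply exists_effective_of_covers
  intro v
  obtain ⟨_, ⟨S₀, hS₀, rfl⟩, hs, -⟩ :=
    S.isBasis_affineOpens.exists_subset_of_mem_open (Set.mem_univ (p (D.obj.hom v))) isOpen_univ
  exact ⟨⟨_, isChart_preimage_of_quasiAffine D hD S₀ hS₀⟩, hs⟩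

end Groth.Agent.H40.DG
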