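import Groth.Agent.H40.DG.Sub
import Mathlib.AlgebraicGeometry.Morphisms.FlatDescent

/-!
# Quotients of a descent datum: `(M, q, m)` with `V ≅ X ×_S M` compatibly with transport
-/

set_option autoImplicit false
set_option backward.isDefEq.respectTransparency.types false
universe u

open CategoryTheory CategoryTheory.Limits AlgebraicGeometry

namespace Groth.Agent.H40.DG

open Desc Groth.Agent.H40.DQ

variable {X S : Scheme.{u}} {p : X ⟶ S}

/-- `m : V ⟶ M` over `S` exhibits the descent datum `D = (V, φ)` as the canonical descent datum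
of `M`. -/
structure IsQuot (D : Desc.SchDD p) {M : Scheme.{u}} (q : M ⟶ S) (m : D.obj.left ⟶ M) : Prop where
  w : D.obj.hom ≫ p = m ≫ q
  inv : ∀ ⦃T : Scheme.{u}⦄ (v : T ⟶ D.obj.left) (x₁ : T ⟶ X)
    (h : (v ≫ D.obj.hom) ≫ p = x₁ ≫ p), tr D v x₁ h ≫ m = v ≫ m
  iso : IsIso (pullback.lift D.obj.hom m w)

namespace IsQuot

variable {D : Desc.SchDD p} {M : Scheme.{u}} {q : M ⟶ S} {m : D.obj.left ⟶ M}

section

variable (hq : IsQuot D q m)

/-- the comparison isomorphism `V ⟶ X ×_S M`. -/
noncomputable def θ : D.obj.left ⟶ pullback p q := pullback.lift D.obj.hom m hq.w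

instance : IsIso hq.θ := hq.iso

@[reassoc (attr := simp)]
theorem θ_fst : hq.θ ≫ pullback.fst p q = D.obj.hom := pullback.lift_fst _ _ _

@[reassoc (attr := simp)]
theorem θ_snd : hq.θ ≫ pullback.snd p q = m := pullback.lift_snd _ _ _

include hq in
theorem inv_univ : tmor D ≫ m = pullback.fst (D.obj.hom ≫ p) p ≫ m := hq.inv _ _ _

include hq in
/-- the descent datum is effective. -/
theorem nonempty_iso : Nonempty ((Desc.toDD p).obj (Over.mk q) ≅ D) := by
  let a : D ⟶ (Desc.toDD p).obj (Over.mk q) :=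
    { hom := Over.homMk hq.θ hq.θ_fst
      comm := by
        intro T x₀ x₁ h v w hw
        change (canMap p (Over.mk q) x₀ x₁ h w).1 = (D.φ x₀ x₁ h v).1 ≫ hq.θ
        rw [canMap_val]
        apply pullback.hom_ext
        · rw [pullback.lift_fst, Category.assoc]
          change _ = _ ≫ hq.θ ≫ pullback.fst p q
          rw [θ_fst]
          exact ((D.φ x₀ x₁ h v).2).symm
        · rw [pullback.lift_snd, Category.assoc]
          change _ = _ ≫ hq.θ ≫ pullback.snd p q
          rw [θ_snd, tr_eq_phi, hq.inv]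
          have hw' : w.1 = v.1 ≫ hq.θ := hw
          rw [hw', Category.assoc]
          change _ ≫ hq.θ ≫ pullback.snd p q = _
          rw [θ_snd] }
  haveI : IsIso a.hom := by
    have : IsIso ((Over.forget X).map a.hom) := by
      change IsIso hq.θ
      infer_instance
    exact isIso_of_reflects_iso _ (Over.forget X)
  exact nonempty_iso_of_isIso_hom a

include hq in
theorem isPullback : IsPullback (tmor D) (pullback.fst (D.obj.hom ≫ p) p) m m := by
  refine ⟨⟨hq.inv_univ⟩, ⟨PullbackCone.IsLimit.mk _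
    (fun s => pullback.lift s.snd (s.fst ≫ D.obj.hom) ?_) ?_ ?_ ?_⟩⟩
  · rw [← Category.assoc, Category.assoc s.snd, hq.w, Category.assoc s.fst, hq.w,
      reassoc_of% s.condition]
  · intro s
    have hc : (s.snd ≫ D.obj.hom) ≫ p = (s.fst ≫ D.obj.hom) ≫ p := by
      rw [Category.assoc s.snd, hq.w, Category.assoc s.fst, hq.w, reassoc_of% s.condition]
    rw [lift_tmor D s.snd (s.fst ≫ D.obj.hom) hc, ← cancel_mono hq.θ]
    apply pullback.hom_ext
    · rw [Category.assoc, θ_fst, Category.assoc, θ_fst, tr_hom]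
    · rw [Category.assoc, θ_snd, Category.assoc, θ_snd, hq.inv, s.condition]
  · intro s
    exact pullback.lift_fst _ _ _
  · intro s m' h1 h2
    apply pullback.hom_ext
    · rw [pullback.lift_fst]
      exact h2
    · rw [pullback.lift_snd, ← h1, Category.assoc, tmor_hom]

include hq in
theorem apply_eq_of_orb {v w : D.obj.left} (h : Orb D v w) : m v = m w := by
  obtain ⟨r, rfl, rfl⟩ := h
  rw [← Scheme.Hom.comp_apply, ← Scheme.Hom.comp_apply, hq.inv_univ]

include hq in
theorem orb_of_apply_eq {v w : D.obj.left} (h : m v = m w) : Orb D v w := by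
  obtain ⟨z, hz1, hz2⟩ := Scheme.Pullback.exists_preimage_pullback (f := m) (g := m) v w h
  apply Orb.symm
  refine ⟨hq.isPullback.lift (pullback.fst m m) (pullback.snd m m) pullback.condition z, ?_, ?_⟩
  · rw [← Scheme.Hom.comp_apply, IsPullback.lift_snd, hz2]
  · rw [← Scheme.Hom.comp_apply, IsPullback.lift_fst, hz1]

include hq in
theorem apply_eq_iff {v w : D.obj.left} : m v = m w ↔ Orb D v w :=
  ⟨hq.orb_of_apply_eq, hq.apply_eq_of_orb⟩

theorem m_eq : m = hq.θ ≫ pullback.snd p q := (θ_snd hq).symm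

include hq in
theorem flat [Flat p] : Flat m := by
  rw [hq.m_eq]
  infer_instance

include hq in
theorem surjective [Surjective p] : Surjective m := by
  rw [hq.m_eq]
  infer_instance

include hq in
theorem quasiCompact [QuasiCompact p] : QuasiCompact m := by
  rw [hq.m_eq]
  infer_instance

variable [Flat p] [Surjective p] [QuasiCompact p]

include hq in
theorem effectiveEpi : EffectiveEpi m := by
  haveI := hq.flat
  haveI := hq.surjective
  haveI := hq.quasiCompact
  infer_instance

include hq in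
theorem epi : Epi m := by
  haveI := hq.effectiveEpi
  infer_instance

include hq in
theorem desc_cond {N : Scheme.{u}} (f : D.obj.left ⟶ N)
    (hf : tmor D ≫ f = pullback.fst (D.obj.hom ≫ p) p ≫ f) {Z : Scheme.{u}}
    (g₁ g₂ : Z ⟶ D.obj.left) (hg : g₁ ≫ m = g₂ ≫ m) : g₁ ≫ f = g₂ ≫ f := by
  have e1 : g₁ = hq.isPullback.lift g₁ g₂ hg ≫ tmor D := (hq.isPullback.lift_fst _ _ _).symm
  have e2 : g₂ = hq.isPullback.lift g₁ g₂ hg ≫ pullback.fst (D.obj.hom ≫ p) p :=
    (hq.isPullback.lift_snd _ _ _).symm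
  rw [e1, Category.assoc, hf, ← Category.assoc, ← e2]

/-- descending an invariant morphism to the quotient. -/
noncomputable def desc {N : Scheme.{u}} (f : D.obj.left ⟶ N)
    (hf : tmor D ≫ f = pullback.fst (D.obj.hom ≫ p) p ≫ f) : M ⟶ N :=
  @EffectiveEpi.desc _ _ _ _ _ m hq.effectiveEpi f (fun g₁ g₂ hg => hq.desc_cond f hf g₁ g₂ hg)

@[reassoc (attr := simp)]
theorem fac {N : Scheme.{u}} (f : D.obj.left ⟶ N)
    (hf : tmor D ≫ f = pullback.fst (D.obj.hom ≫ p) p ≫ f) : m ≫ hq.desc f hf = f :=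
  @EffectiveEpi.fac _ _ _ _ _ m hq.effectiveEpi f (fun g₁ g₂ hg => hq.desc_cond f hf g₁ g₂ hg)

include hq in
theorem hom_ext {N : Scheme.{u}} {f g : M ⟶ N} (h : m ≫ f = m ≫ g) : f = g := by
  haveI := hq.epi
  exact (cancel_epi m).mp h

end

end IsQuot

/-- transport for the canonical descent datum keeps the second component. -/
theorem tr_canonical_snd (U : Over S) {T : Scheme.{u}} (v : T ⟶ ((Desc.toDD p).obj U).obj.left)
    (x₁ : T ⟶ X) (h : (v ≫ ((Desc.toDD p).obj U).obj.hom) ≫ p = x₁ ≫ p) :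
    tr ((Desc.toDD p).obj U) v x₁ h ≫ pullback.snd p U.hom = v ≫ pullback.snd p U.hom := by
  unfold tr
  change (canMap p U _ x₁ h ⟨v, rfl⟩).1 ≫ pullback.snd p U.hom = _
  rw [canMap_val, pullback.lift_snd]
  rfl

/-- the underlying morphism of the inverse of an isomorphism with a canonical descent datum. -/
noncomputable def isoInvLeft {D : Desc.SchDD p} (U : Over S) (e : (Desc.toDD p).obj U ≅ D) :
    D.obj.left ⟶ pullback p U.hom := e.inv.hom.left

/-- the underlying morphism of an isomorphism with a canonical descent datum. -/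
noncomputable def isoHomLeft {D : Desc.SchDD p} (U : Over S) (e : (Desc.toDD p).obj U ≅ D) :
    pullback p U.hom ⟶ D.obj.left := e.hom.hom.left

@[reassoc (attr := simp)]
theorem isoInvLeft_isoHomLeft {D : Desc.SchDD p} (U : Over S) (e : (Desc.toDD p).obj U ≅ D) :
    isoInvLeft U e ≫ isoHomLeft U e = 𝟙 _ :=
  congrArg (fun a : D ⟶ D => a.hom.left) e.inv_hom_id

@[reassoc (attr := simp)]
theorem isoHomLeft_isoInvLeft {D : Desc.SchDD p} (U : Over S) (e : (Desc.toDD p).obj U ≅ D) :
    isoHomLeft U e ≫ isoInvLeft U e = 𝟙 _ :=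
  congrArg (fun a : (Desc.toDD p).obj U ⟶ (Desc.toDD p).obj U => a.hom.left) e.hom_inv_id

@[reassoc (attr := simp)]
theorem isoInvLeft_fst {D : Desc.SchDD p} (U : Over S) (e : (Desc.toDD p).obj U ≅ D) :
    isoInvLeft U e ≫ pullback.fst p U.hom = D.obj.hom := Over.w e.inv.hom

/-- an isomorphism with a canonical descent datum gives a quotient. -/
theorem isQuot_of_iso {D : Desc.SchDD p} (U : Over S) (e : (Desc.toDD p).obj U ≅ D) :
    IsQuot D U.hom (isoInvLeft U e ≫ pullback.snd p U.hom) := by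
  have hw : D.obj.hom ≫ p = (isoInvLeft U e ≫ pullback.snd p U.hom) ≫ U.hom := by
    rw [← isoInvLeft_fst U e, Category.assoc, Category.assoc, pullback.condition]
  refine ⟨hw, ?_, ?_⟩
  · intro T v x₁ h
    have h' : ((v ≫ e.inv.hom.left) ≫ ((Desc.toDD p).obj U).obj.hom) ≫ p = x₁ ≫ p := by
      rw [Category.assoc v, Over.w e.inv.hom]
      exact h
    have key := hom_tr e.inv v x₁ h h'
    have key2 := tr_canonical_snd U (v ≫ e.inv.hom.left) x₁ h'
    change tr D v x₁ h ≫ e.inv.hom.left ≫ pullback.snd p U.hom =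
      v ≫ e.inv.hom.left ≫ pullback.snd p U.hom
    rw [← Category.assoc, key, key2, Category.assoc]
  · have e1 : pullback.lift D.obj.hom (isoInvLeft U e ≫ pullback.snd p U.hom) hw =
        isoInvLeft U e := by
      apply pullback.hom_ext
      · rw [pullback.lift_fst, isoInvLeft_fst]
      · rw [pullback.lift_snd]
    rw [e1]
    exact ⟨isoHomLeft U e, isoInvLeft_isoHomLeft U e, isoHomLeft_isoInvLeft U e⟩

end Groth.Agent.H40.DG
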