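import Groth.Agent.S9853
import Groth.Agent.H40.DG.Quot

/-!
# Effectivity can be tested after refining the cover

For `c : X' ⟶ X` and `p : X ⟶ S` with `c ≫ p` an fpqc covering, a descent datum `D` relative to `p`
whose pullback along `c` (a descent datum relative to `c ≫ p`) is isomorphic to the canonical descent
datum of `M` is itself isomorphic to the canonical descent datum of `M` (full faithfulness of the
pullback functor, `S9853`).
-/

set_option autoImplicit false
set_option backward.isDefEq.respectTransparency false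
set_option backward.isDefEq.respectTransparency.types false
universe u

open CategoryTheory CategoryTheory.Limits AlgebraicGeometry

namespace Groth.Agent.H40.DG

open Desc Groth.Agent.H40.DQ

variable {X X' S : Scheme.{u}} (p : X ⟶ S) (c : X' ⟶ X)

/-- pullback of descent data (for one-member families) along `c : X' ⟶ X`. -/
noncomputable abbrev pullFam : SchDDFam (fun _ : PUnit.{u + 1} => p) ⥤
    SchDDFam (fun _ : PUnit.{u + 1} => c ≫ p) :=
  Desc.pullDDFam (f := fun _ : PUnit.{u + 1} => p) (f' := fun _ : PUnit.{u + 1} => c ≫ p)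
    (α := fun j => j) (p := 𝟙 S) (p' := fun _ => c)
    (fun _ => (rfl : c ≫ p = c ≫ p).trans (Category.comp_id (c ≫ p)).symm)

theorem pullFam_φ_fst (E : SchDDFam (fun _ : PUnit.{u + 1} => p)) {T : Scheme.{u}}
    {i j : PUnit.{u + 1}} (x₀ x₁ : T ⟶ X') (h : x₀ ≫ c ≫ p = x₁ ≫ c ≫ p)
    (h' : (x₀ ≫ c) ≫ p = (x₁ ≫ c) ≫ p)
    (v : Lifts (((pullFam p c).obj E).obj i) x₀) (v' : Lifts (E.obj i) (x₀ ≫ c))
    (hv' : v'.1 = v.1 ≫ pullback.fst (E.obj i).hom c) :
    (((pullFam p c).obj E).φ x₀ x₁ h v).1 ≫ pullback.fst (E.obj j).hom c =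
      (E.φ (x₀ ≫ c) (x₁ ≫ c) h' v').1 := by
  have e : v' = liftsPullbackEquiv (E.obj i) c x₀ v := Subtype.ext hv'
  subst e
  exact pullback.lift_fst _ _ _

theorem pullFam_φ_snd (E : SchDDFam (fun _ : PUnit.{u + 1} => p)) {T : Scheme.{u}}
    {i j : PUnit.{u + 1}} (x₀ x₁ : T ⟶ X') (h : x₀ ≫ c ≫ p = x₁ ≫ c ≫ p)
    (v : Lifts (((pullFam p c).obj E).obj i) x₀) :
    (((pullFam p c).obj E).φ x₀ x₁ h v).1 ≫ pullback.snd (E.obj j).hom c = x₁ :=
  (((pullFam p c).obj E).φ x₀ x₁ h v).2

theorem toFam_φ_fst {Y : Scheme.{u}} (f : Y ⟶ S) (M : Over S) {T : Scheme.{u}} {i j : PUnit.{u + 1}}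
    (x₀ x₁ : T ⟶ Y) (h : x₀ ≫ f = x₁ ≫ f)
    (w : Lifts (((toDDFam (fun _ : PUnit.{u + 1} => f)).obj M).obj i) x₀) :
    ((((toDDFam (fun _ : PUnit.{u + 1} => f)).obj M).φ (i := i) (j := j) x₀ x₁ h w).1 :
      T ⟶ pullback f M.hom) ≫ pullback.fst f M.hom = x₁ :=
  pullback.lift_fst _ _ _

theorem toFam_φ_snd {Y : Scheme.{u}} (f : Y ⟶ S) (M : Over S) {T : Scheme.{u}} {i j : PUnit.{u + 1}}
    (x₀ x₁ : T ⟶ Y) (h : x₀ ≫ f = x₁ ≫ f)
    (w : Lifts (((toDDFam (fun _ : PUnit.{u + 1} => f)).obj M).obj i) x₀) :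
    ((((toDDFam (fun _ : PUnit.{u + 1} => f)).obj M).φ (i := i) (j := j) x₀ x₁ h w).1 :
      T ⟶ pullback f M.hom) ≫ pullback.snd f M.hom =
      (w.1 : T ⟶ pullback f M.hom) ≫ pullback.snd f M.hom :=
  pullback.lift_snd _ _ _

noncomputable def canL (M : Over S) : pullback (pullback.fst p M.hom) c ⟶ pullback (c ≫ p) M.hom :=
  pullback.lift (pullback.snd (pullback.fst p M.hom) c)
    (pullback.fst (pullback.fst p M.hom) c ≫ pullback.snd p M.hom) (by
      rw [← Category.assoc, ← pullback.condition, Category.assoc, Category.assoc,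
        pullback.condition])

@[reassoc (attr := simp)]
theorem canL_fst (M : Over S) : canL p c M ≫ pullback.fst (c ≫ p) M.hom =
    pullback.snd (pullback.fst p M.hom) c := pullback.lift_fst _ _ _

@[reassoc (attr := simp)]
theorem canL_snd (M : Over S) : canL p c M ≫ pullback.snd (c ≫ p) M.hom =
    pullback.fst (pullback.fst p M.hom) c ≫ pullback.snd p M.hom := pullback.lift_snd _ _ _

theorem canHom_comm_aux (M : Over S) {T : Scheme.{u}} (A wv : T ⟶ pullback (c ≫ p) M.hom)
    (B vv : T ⟶ pullback (pullback.fst p M.hom) c) (x₁ : T ⟶ X') (B' : T ⟶ pullback p M.hom)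
    (hA1 : A ≫ pullback.fst (c ≫ p) M.hom = x₁)
    (hA2 : A ≫ pullback.snd (c ≫ p) M.hom = wv ≫ pullback.snd (c ≫ p) M.hom)
    (hB2 : B ≫ pullback.snd (pullback.fst p M.hom) c = x₁)
    (hB1 : B ≫ pullback.fst (pullback.fst p M.hom) c = B')
    (hB' : B' ≫ pullback.snd p M.hom =
      (vv ≫ pullback.fst (pullback.fst p M.hom) c) ≫ pullback.snd p M.hom)
    (hw : wv = vv ≫ canL p c M) : A = B ≫ canL p c M := by
  apply pullback.hom_ext
  · rw [hA1, Category.assoc, canL_fst, hB2]
  · rw [hA2, Category.assoc, canL_snd, reassoc_of% hB1, hB', hw, Category.assoc, canL_snd,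
      Category.assoc]

noncomputable def canHom (M : Over S) :
    (pullFam p c).obj ((toDDFam (fun _ : PUnit.{u + 1} => p)).obj M) ⟶
      (toDDFam (fun _ : PUnit.{u + 1} => c ≫ p)).obj M where
  hom _ := Over.homMk (canL p c M) (canL_fst p c M)
  comm := by
    intro T i j x₀ x₁ h v w hw
    have h' : (x₀ ≫ c) ≫ p = (x₁ ≫ c) ≫ p := by simpa only [Category.assoc] using h
    exact canHom_comm_aux p c M _ w.1 _ v.1 x₁ _ (toFam_φ_fst (c ≫ p) M x₀ x₁ h w)
      (toFam_φ_snd (c ≫ p) M x₀ x₁ h w) (pullFam_φ_snd p c _ x₀ x₁ h v)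
      (pullFam_φ_fst p c _ x₀ x₁ h h' v ⟨v.1 ≫ pullback.fst _ c, by
          rw [Category.assoc, pullback.condition, ← Category.assoc]
          congr 1
          exact v.2⟩ rfl)
      (toFam_φ_snd p M (x₀ ≫ c) (x₁ ≫ c) h' _) hw

noncomputable def canR (M : Over S) : pullback (c ≫ p) M.hom ⟶ pullback (pullback.fst p M.hom) c :=
  pullback.lift (pullback.lift (pullback.fst (c ≫ p) M.hom ≫ c) (pullback.snd (c ≫ p) M.hom)
    (by rw [Category.assoc, pullback.condition])) (pullback.fst (c ≫ p) M.hom)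
    (by rw [pullback.lift_fst])

@[reassoc (attr := simp)]
theorem canR_snd (M : Over S) : canR p c M ≫ pullback.snd (pullback.fst p M.hom) c =
    pullback.fst (c ≫ p) M.hom := pullback.lift_snd _ _ _

@[reassoc (attr := simp)]
theorem canR_fst_fst (M : Over S) : canR p c M ≫ pullback.fst (pullback.fst p M.hom) c ≫
    pullback.fst p M.hom = pullback.fst (c ≫ p) M.hom ≫ c := by
  unfold canR
  rw [pullback.lift_fst_assoc, pullback.lift_fst]

@[reassoc (attr := simp)]
theorem canR_fst_snd (M : Over S) : canR p c M ≫ pullback.fst (pullback.fst p M.hom) c ≫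
    pullback.snd p M.hom = pullback.snd (c ≫ p) M.hom := by
  unfold canR
  rw [pullback.lift_fst_assoc, pullback.lift_snd]

instance (M : Over S) : IsIso (canL p c M) := by
  refine ⟨canR p c M, ?_, ?_⟩
  · apply pullback.hom_ext
    · apply pullback.hom_ext
      · rw [Category.assoc, Category.assoc, canR_fst_fst, canL_fst_assoc, Category.id_comp,
          pullback.condition]
      · rw [Category.assoc, Category.assoc, canR_fst_snd, canL_snd, Category.id_comp]
    · rw [Category.assoc, canR_snd, canL_fst, Category.id_comp]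
  · apply pullback.hom_ext
    · rw [Category.assoc, canL_fst, canR_snd, Category.id_comp]
    · rw [Category.assoc, canL_snd, canR_fst_snd, Category.id_comp]

/-- a morphism of descent data relative to a family all of whose components are isomorphisms is an
isomorphism. -/
theorem isIso_of_isIso_hom {ι : Type u} {Y : ι → Scheme.{u}} {f : ∀ i, Y i ⟶ S}
    {D D' : SchDDFam f} (a : D ⟶ D') [∀ i, IsIso (a.hom i)] : IsIso a := by
  let b : D' ⟶ D :=
    { hom := fun i => inv (a.hom i)
      comm := by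
        intro T i j x₀ x₁ h v w hw
        have hv : v.1 = w.1 ≫ (a.hom i).left := by
          rw [hw, Category.assoc, ← Over.comp_left, IsIso.inv_hom_id, Over.id_left, Category.comp_id]
        have := a.comm x₀ x₁ h w v hv
        rw [this, Category.assoc, ← Over.comp_left, IsIso.hom_inv_id, Over.id_left, Category.comp_id] }
  refine ⟨b, ?_, ?_⟩
  · apply SchDDFam.hom_ext
    funext i
    exact IsIso.hom_inv_id (a.hom i)
  · apply SchDDFam.hom_ext
    funext i
    exact IsIso.inv_hom_id (a.hom i)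

instance (M : Over S) : IsIso (canHom p c M) := by
  have : ∀ i, IsIso ((canHom p c M).hom i) := by
    intro i
    have : IsIso ((Over.forget X').map ((canHom p c M).hom i)) := by
      change IsIso (canL p c M)
      infer_instance
    exact isIso_of_reflects_iso _ (Over.forget X')
  exact isIso_of_isIso_hom _

noncomputable def pullDD (D : Desc.SchDD p) : Desc.SchDD (c ≫ p) :=
  (SchDDFam.toSchDD (c ≫ p)).obj ((pullFam p c).obj ((SchDDFam.ofSchDD p).obj D))

theorem pullDD_hom (D : Desc.SchDD p) : (pullDD p c D).obj.hom = pullback.snd D.obj.hom c := rfl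

/-- a descent datum whose pullback along a refinement is effective is effective. -/
theorem nonempty_iso_of_pullDD (hc : Presieve.singleton (c ≫ p) ∈ Scheme.fpqcPrecoverage S)
    (D : Desc.SchDD p) (M : Over S) (e : (Desc.toDD (c ≫ p)).obj M ≅ pullDD p c D) :
    Nonempty ((Desc.toDD p).obj M ≅ D) := by
  have hff := Groth.Agent.S9853.result (c ≫ p) p c rfl hc
  have : (pullFam p c).Full := hff.1
  have : (pullFam p c).Faithful := hff.2
  let e₀ : (toDDFam (fun _ : PUnit.{u + 1} => c ≫ p)).obj M ≅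
      (pullFam p c).obj ((SchDDFam.ofSchDD p).obj D) := (SchDDFam.ofSchDD (c ≫ p)).mapIso e
  let e₁ : (pullFam p c).obj ((toDDFam (fun _ : PUnit.{u + 1} => p)).obj M) ≅
      (pullFam p c).obj ((SchDDFam.ofSchDD p).obj D) := asIso (canHom p c M) ≪≫ e₀
  let e₂ : (toDDFam (fun _ : PUnit.{u + 1} => p)).obj M ≅ (SchDDFam.ofSchDD p).obj D :=
    (pullFam p c).preimageIso e₁
  exact ⟨(SchDDFam.toSchDD p).mapIso e₂⟩

end Groth.Agent.H40.DG
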