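import Groth.Agent.H40.DG.Quot

/-!
# Restricting the base of a descent datum

For a cartesian square `X₀ = X ×_S S₀` with `S₀ ⟶ S` a monomorphism and a descent datum `D` relative
to `p : X ⟶ S` whose structure morphism factors through `X₀`, we get a descent datum relative to
`p₀ : X₀ ⟶ S₀`; a quotient of the latter is a quotient of the former.
-/

set_option autoImplicit false
set_option backward.isDefEq.respectTransparency.types false
universe u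

open CategoryTheory CategoryTheory.Limits AlgebraicGeometry

namespace Groth.Agent.H40.DG

open Desc Groth.Agent.H40.DQ

variable {X S : Scheme.{u}} {p : X ⟶ S}

/-- the cartesian square of a quotient. -/
theorem IsQuot.isPullback_hom {D : Desc.SchDD p} {M : Scheme.{u}} {q : M ⟶ S}
    {m : D.obj.left ⟶ M} (hq : IsQuot D q m) : IsPullback D.obj.hom m p q :=
  IsPullback.of_iso_pullback ⟨hq.w⟩ (asIso hq.θ) hq.θ_fst hq.θ_snd

/-- a pullback square gives a quotient. -/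
theorem isQuot_of_isPullback {X S : Scheme.{u}} {p : X ⟶ S} (D : Desc.SchDD p) {M : Scheme.{u}}
    (q : M ⟶ S) (m : D.obj.left ⟶ M) (sq : IsPullback D.obj.hom m p q)
    (hinv : ∀ ⦃T : Scheme.{u}⦄ (v : T ⟶ D.obj.left) (x₁ : T ⟶ X)
      (h : (v ≫ D.obj.hom) ≫ p = x₁ ≫ p), tr D v x₁ h ≫ m = v ≫ m) : IsQuot D q m := by
  refine ⟨sq.w, hinv, ?_⟩
  have : pullback.lift D.obj.hom m sq.w = sq.isoPullback.hom := by
    apply pullback.hom_ext
    · rw [pullback.lift_fst, IsPullback.isoPullback_hom_fst]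
    · rw [pullback.lift_snd, IsPullback.isoPullback_hom_snd]
  rw [this]
  infer_instance

section Base

variable {X₀ S₀ : Scheme.{u}} {p₀ : X₀ ⟶ S₀} {i' : X₀ ⟶ X} {i : S₀ ⟶ S}
  (sq : IsPullback i' p₀ p i) [Mono i] (D : Desc.SchDD p) (a₀ : D.obj.left ⟶ X₀)
  (ha : a₀ ≫ i' = D.obj.hom)

include sq in
theorem mono_of_isPullback_mono : Mono i' := by
  constructor
  intro T f g hfg
  apply sq.hom_ext hfg
  rw [← cancel_mono i, Category.assoc, Category.assoc, ← sq.w, reassoc_of% hfg]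

include sq ha in
theorem base_aux {T : Scheme.{u}} {x₀ x₁ : T ⟶ X₀} (h : x₀ ≫ p₀ = x₁ ≫ p₀)
    (v : Lifts (Over.mk a₀) x₀) : (v.1 ≫ D.obj.hom) ≫ p = (x₁ ≫ i') ≫ p := by
  have hv : v.1 ≫ a₀ = x₀ := v.2
  rw [← ha, ← Category.assoc, hv, Category.assoc, Category.assoc, sq.w, reassoc_of% h]

/-- one direction of the gluing bijection of the base-restricted descent datum. -/
noncomputable def baseφ {T : Scheme.{u}} (x₀ x₁ : T ⟶ X₀) (h : x₀ ≫ p₀ = x₁ ≫ p₀)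
    (v : Lifts (Over.mk a₀) x₀) : Lifts (Over.mk a₀) x₁ :=
  ⟨tr D v.1 (x₁ ≫ i') (base_aux sq D a₀ ha h v), by
    haveI := mono_of_isPullback_mono sq
    change tr D v.1 (x₁ ≫ i') (base_aux sq D a₀ ha h v) ≫ a₀ = x₁
    rw [← cancel_mono i', Category.assoc, ha, tr_hom]⟩

theorem baseφ_val {T : Scheme.{u}} (x₀ x₁ : T ⟶ X₀) (h : x₀ ≫ p₀ = x₁ ≫ p₀)
    (v : Lifts (Over.mk a₀) x₀) :
    (baseφ sq D a₀ ha x₀ x₁ h v).1 = tr D v.1 (x₁ ≫ i') (base_aux sq D a₀ ha h v) := rfl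

theorem baseφ_baseφ {T : Scheme.{u}} (x₀ x₁ x₂ : T ⟶ X₀) (h : x₀ ≫ p₀ = x₁ ≫ p₀)
    (h' : x₁ ≫ p₀ = x₂ ≫ p₀) (v : Lifts (Over.mk a₀) x₀) :
    baseφ sq D a₀ ha x₁ x₂ h' (baseφ sq D a₀ ha x₀ x₁ h v) =
      baseφ sq D a₀ ha x₀ x₂ (h.trans h') v := by
  apply Subtype.ext
  have h₂ : (tr D v.1 (x₁ ≫ i') (base_aux sq D a₀ ha h v) ≫ D.obj.hom) ≫ p = (x₂ ≫ i') ≫ p := by
    rw [tr_hom, Category.assoc, Category.assoc, sq.w, reassoc_of% h']
  exact tr_tr D v.1 (x₁ ≫ i') (x₂ ≫ i') (base_aux sq D a₀ ha h v) h₂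

theorem baseφ_self {T : Scheme.{u}} (x : T ⟶ X₀) (v : Lifts (Over.mk a₀) x) :
    baseφ sq D a₀ ha x x rfl v = v := by
  apply Subtype.ext
  rw [baseφ_val]
  apply tr_self'
  have hv : v.1 ≫ a₀ = x := v.2
  rw [← ha, ← Category.assoc, hv]

/-- the descent datum relative to `p₀ : X₀ ⟶ S₀`. -/
noncomputable def baseDD : Desc.SchDD p₀ where
  obj := Over.mk a₀
  φ T x₀ x₁ h :=
    { toFun := baseφ sq D a₀ ha x₀ x₁ h
      invFun := baseφ sq D a₀ ha x₁ x₀ h.symm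
      left_inv := fun v => by rw [baseφ_baseφ, baseφ_self]
      right_inv := fun v => by rw [baseφ_baseφ, baseφ_self] }
  φ_natural T T' g x₀ x₁ h h' v v' hv' := by
    change (baseφ sq D a₀ ha (g ≫ x₀) (g ≫ x₁) h' v').1 = g ≫ (baseφ sq D a₀ ha x₀ x₁ h v).1
    rw [baseφ_val, baseφ_val, precomp_tr]
    exact tr_congr D hv' (Category.assoc _ _ _) _ _
  φ_self T x v := baseφ_self sq D a₀ ha x v
  φ_comp T x₀ x₁ x₂ h₀₁ h₁₂ v := baseφ_baseφ sq D a₀ ha x₀ x₁ x₂ h₀₁ h₁₂ v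

@[simp] theorem baseDD_left : (baseDD sq D a₀ ha).obj.left = D.obj.left := rfl

@[simp] theorem baseDD_hom : (baseDD sq D a₀ ha).obj.hom = a₀ := rfl

theorem tr_base {T : Scheme.{u}} (v : T ⟶ D.obj.left) (x₁ : T ⟶ X₀)
    (h : (v ≫ (baseDD sq D a₀ ha).obj.hom) ≫ p₀ = x₁ ≫ p₀)
    (h' : (v ≫ D.obj.hom) ≫ p = (x₁ ≫ i') ≫ p) :
    tr (baseDD sq D a₀ ha) v x₁ h = tr D v (x₁ ≫ i') h' := rfl

variable {sq D a₀ ha}

/-- a quotient of the base-restricted descent datum is a quotient of the original one. -/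
theorem isQuot_of_base {M : Scheme.{u}} {q₀ : M ⟶ S₀} {m : D.obj.left ⟶ M}
    (hq : IsQuot (baseDD sq D a₀ ha) q₀ m) : IsQuot D (q₀ ≫ i) m := by
  have sq₀ : IsPullback a₀ m p₀ q₀ := hq.isPullback_hom
  have sq' : IsPullback (a₀ ≫ i') m p (q₀ ≫ i) := sq₀.paste_horiz sq
  rw [ha] at sq'
  apply isQuot_of_isPullback D _ m sq'
  intro T v x₁ h
  have hx : x₁ ≫ p = (v ≫ a₀ ≫ p₀) ≫ i := by
    rw [← h, ← ha]
    simp only [Category.assoc]
    rw [sq.w]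
  let x₁₀ : T ⟶ X₀ := sq.lift x₁ (v ≫ a₀ ≫ p₀) hx
  have e : x₁₀ ≫ i' = x₁ := sq.lift_fst _ _ _
  have h0 : (v ≫ (baseDD sq D a₀ ha).obj.hom) ≫ p₀ = x₁₀ ≫ p₀ := by
    rw [baseDD_hom, sq.lift_snd, Category.assoc]
  have h' : (v ≫ D.obj.hom) ≫ p = (x₁₀ ≫ i') ≫ p := by
    rw [e]
    exact h
  have key := hq.inv v x₁₀ h0
  rw [tr_base sq D a₀ ha v x₁₀ h0 h'] at key
  refine Eq.trans ?_ key
  congr 1
  exact tr_congr D rfl e.symm _ _

end Base

end Groth.Agent.H40.DG
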