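import Groth.Agent.H40.DG.Chart

/-!
# Transition maps between charts are open immersions; the diagram of charts is locally directed
-/

set_option autoImplicit false
set_option backward.isDefEq.respectTransparency.types false
universe u

open CategoryTheory CategoryTheory.Limits AlgebraicGeometry

namespace Groth.Agent.H40.DG

open Desc Groth.Agent.H40.DQ

variable {X S : Scheme.{u}} {p : X ⟶ S}

section Uniq

variable [Flat p] [Surjective p] [QuasiCompact p]

/-- two quotients of the same descent datum are isomorphic. -/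
theorem IsQuot.isIso_desc {D : Desc.SchDD p} {M M' : Scheme.{u}} {q : M ⟶ S} {q' : M' ⟶ S}
    {m : D.obj.left ⟶ M} {m' : D.obj.left ⟶ M'} (hq : IsQuot D q m) (hq' : IsQuot D q' m') :
    IsIso (hq.desc m' hq'.inv_univ) := by
  refine ⟨hq'.desc m hq.inv_univ, hq.hom_ext ?_, hq'.hom_ext ?_⟩
  · rw [IsQuot.fac_assoc, IsQuot.fac, Category.comp_id]
  · rw [IsQuot.fac_assoc, IsQuot.fac, Category.comp_id]

end Uniq

variable {D : Desc.SchDD p}

theorem chartP_eq_iff (W : J D) (x y : W.1.toScheme) :
    chartP W x = chartP W y ↔ Orb D (W.1.ι x) (W.1.ι y) := by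
  refine ((chart_isQuot W).apply_eq_iff (v := x) (w := y)).trans ?_
  constructor
  · intro h
    exact Orb.map (rι W) h
  · intro h
    exact Orb.of_map (rι W) W.1.ι.isOpenEmbedding.injective h

variable [Flat p] [Surjective p] [QuasiCompact p]

theorem chartP_surjective (W : J D) : Function.Surjective (chartP W) := (chartP W).surjective

instance isOpenImmersion_chartT {W W' : J D} (h : W ≤ W') : IsOpenImmersion (chartT h) := by
  let Z := openImage (rLE h) (chart_isQuot W')
  have hqZ := isQuot_subM (rLE h) (chart_isQuot W')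
  let α : chartM W ⟶ Z.toScheme := (chart_isQuot W).desc (subM (rLE h) (chart_isQuot W'))
    hqZ.inv_univ
  haveI : IsIso α := IsQuot.isIso_desc (chart_isQuot W) hqZ
  have e : chartT h = α ≫ Z.ι := by
    apply chart_hom_ext W
    rw [chartP_chartT]
    have h1 : chartP W ≫ α = subM (rLE h) (chart_isQuot W') := (chart_isQuot W).fac _ _
    have h2 : subM (rLE h) (chart_isQuot W') ≫ Z.ι = (rLE h).hom.left ≫ chartP W' := subM_ι _ _
    have h3 : (chartP W ≫ α) ≫ Z.ι = (rLE h).hom.left ≫ chartP W' :=
      (congrArg (· ≫ Z.ι) h1).trans h2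
    have h4 : (rLE h).hom.left ≫ chartP W' = D.obj.left.homOfLE h ≫ chartP W' := by
      rw [rLE_left]
      rfl
    exact h4.symm.trans (h3.symm.trans (Category.assoc _ _ _))
  rw [e]
  infer_instance

omit [Flat p] [Surjective p] [QuasiCompact p] in
theorem isStable_inf (i j : J D) : IsStable D ((i.1 ⊓ j.1 : D.obj.left.Opens) : Set D.obj.left) := by
  rw [TopologicalSpace.Opens.coe_inf]
  exact i.stable.inter j.stable

theorem isChart_inf (i j : J D) : IsChart D (i.1 ⊓ j.1) := by
  refine ⟨isStable_inf i j, ?_⟩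
  let b : subDD D (i.1 ⊓ j.1).ι (stableMono_of_isStable _ (isStable_inf i j)) ⟶ rD i :=
    liftHom (subι D (i.1 ⊓ j.1).ι (stableMono_of_isStable _ (isStable_inf i j))) (rι i)
      (D.obj.left.homOfLE inf_le_left) (D.obj.left.homOfLE_ι _)
  haveI : IsOpenImmersion b.hom.left := by
    have : b.hom.left = D.obj.left.homOfLE (inf_le_left : i.1 ⊓ j.1 ≤ i.1) := liftHom_left _ _ _ _
    rw [this]
    exact inferInstanceAs (IsOpenImmersion (D.obj.left.homOfLE (inf_le_left : i.1 ⊓ j.1 ≤ i.1)))
  exact ⟨_, _, _, isQuot_subM b (chart_isQuot i)⟩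

/-- the intersection of two charts. -/
def J.inf (i j : J D) : J D := ⟨i.1 ⊓ j.1, isChart_inf i j⟩

theorem J.inf_le_left (i j : J D) : J.inf i j ≤ i := (_root_.inf_le_left : i.1 ⊓ j.1 ≤ i.1)

theorem J.inf_le_right (i j : J D) : J.inf i j ≤ j := (_root_.inf_le_right : i.1 ⊓ j.1 ≤ j.1)

theorem chartT_chartP_apply {W W' : J D} (h : W ≤ W') (x : W.1.toScheme) :
    chartT h (chartP W x) = chartP W' (D.obj.left.homOfLE h x) := by
  rw [← Scheme.Hom.comp_apply, chartP_chartT, Scheme.Hom.comp_apply]

variable (D)

/-- the diagram of charts. -/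
noncomputable def chartF : J D ⥤ Scheme.{u} where
  obj W := chartM W
  map f := chartT (leOfHom f)
  map_id W := chartT_refl W
  map_comp f g := chartT_trans (leOfHom f) (leOfHom g)

instance {W W' : J D} (f : W ⟶ W') : IsOpenImmersion ((chartF D).map f) :=
  isOpenImmersion_chartT (leOfHom f)

instance : ((chartF D) ⋙ Scheme.forget).IsLocallyDirected where
  cond {i j k} fi fj xi xj hx := by
    obtain ⟨ui, rfl⟩ := chartP_surjective i xi
    obtain ⟨uj, rfl⟩ := chartP_surjective j xj
    have hx' : chartT (leOfHom fi) (chartP i ui) = chartT (leOfHom fj) (chartP j uj) := hx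
    rw [chartT_chartP_apply, chartT_chartP_apply, chartP_eq_iff, ← Scheme.Hom.comp_apply,
      ← Scheme.Hom.comp_apply, Scheme.homOfLE_ι, Scheme.homOfLE_ι] at hx'
    have huij : i.1.ι ui ∈ j.1 := (j.stable.mem_iff hx').mpr uj.2
    let ul : (J.inf i j).1.toScheme := ⟨i.1.ι ui, ⟨ui.2, huij⟩⟩
    refine ⟨J.inf i j, homOfLE (J.inf_le_left i j), homOfLE (J.inf_le_right i j),
      chartP (J.inf i j) ul, ?_, ?_⟩
    · change chartT (J.inf_le_left i j) (chartP (J.inf i j) ul) = chartP i ui
      rw [chartT_chartP_apply]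
      congr 1
      apply i.1.ι.isOpenEmbedding.injective
      rw [← Scheme.Hom.comp_apply, Scheme.homOfLE_ι]
      rfl
    · change chartT (J.inf_le_right i j) (chartP (J.inf i j) ul) = chartP j uj
      rw [chartT_chartP_apply, chartP_eq_iff, ← Scheme.Hom.comp_apply, Scheme.homOfLE_ι]
      exact hx'

/-- the glued quotient. -/
noncomputable def quotY : Scheme.{u} := colimit (chartF D)

/-- the inclusion of a chart. -/
noncomputable def chartι (W : J D) : chartM W ⟶ quotY D := colimit.ι (chartF D) W

instance (W : J D) : IsOpenImmersion (chartι D W) :=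
  inferInstanceAs (IsOpenImmersion (colimit.ι (chartF D) W))

/-- the structure morphism of the glued quotient. -/
noncomputable def quotQ : quotY D ⟶ S :=
  colimit.desc (chartF D) ⟨S, { app := fun W => chartQ W
                                naturality := fun W W' f => by
                                  change chartT (leOfHom f) ≫ chartQ W' = chartQ W ≫ 𝟙 S
                                  rw [chartT_chartQ, Category.comp_id] }⟩

variable {D}

@[reassoc (attr := simp)]
theorem chartι_quotQ (W : J D) : chartι D W ≫ quotQ D = chartQ W :=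
  colimit.ι_desc _ _

@[reassoc]
theorem chartT_chartι {W W' : J D} (h : W ≤ W') : chartT h ≫ chartι D W' = chartι D W :=
  colimit.w (chartF D) (homOfLE h)

theorem chartι_eq_iff {W W' : J D} (x : chartM W) (x' : chartM W') :
    chartι D W x = chartι D W' x' ↔
      ∃ (k : J D) (h : k ≤ W) (h' : k ≤ W') (z : chartM k), chartT h z = x ∧ chartT h' z = x' := by
  refine (Scheme.IsLocallyDirected.ι_eq_ι_iff (F := chartF D) (i := W) (j := W') (xi := x)
    (xj := x')).trans ?_
  constructor
  · rintro ⟨k, fi, fj, z, h1, h2⟩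
    exact ⟨k, leOfHom fi, leOfHom fj, z, h1, h2⟩
  · rintro ⟨k, h, h', z, h1, h2⟩
    exact ⟨k, homOfLE h, homOfLE h', z, h1, h2⟩

theorem chartι_jointly_surjective (y : quotY D) : ∃ (W : J D) (x : chartM W), chartι D W x = y :=
  Scheme.IsLocallyDirected.ι_jointly_surjective (chartF D) y

end Groth.Agent.H40.DG
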