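import Groth.Agent.H40.DG.BaseRestrict
import Groth.Agent.H53.Desc.QAffOpen

/-!
# Effectivity of quasi-affine descent data along a faithfully flat morphism of affine schemes
-/

set_option autoImplicit false
set_option backward.isDefEq.respectTransparency.types false
universe u

open CategoryTheory CategoryTheory.Limits AlgebraicGeometry

namespace Groth.Agent.H40.DG

open Desc Groth.Agent.H40.DQ Groth.Agent.H53.Desc

theorem exists_isQuot_of_isQuasiAffine {X S : Scheme.{u}} (p : X ⟶ S) [IsAffine X] [IsAffine S]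
    [Flat p] [Surjective p] (D : Desc.SchDD p) [D.obj.left.IsQuasiAffine] :
    ∃ (M : Scheme.{u}) (q : M ⟶ S) (m : D.obj.left ⟶ M), M.IsQuasiAffine ∧ IsQuot D q m := by
  letI : Algebra Γ(S, ⊤) Γ(X, ⊤) := p.appTop.hom.toAlgebra
  letI : Algebra Γ(X, ⊤) Γ(D.obj.left, ⊤) := D.obj.hom.appTop.hom.toAlgebra
  letI : Algebra Γ(S, ⊤) Γ(D.obj.left, ⊤) :=
    ((algebraMap Γ(X, ⊤) Γ(D.obj.left, ⊤)).comp (algebraMap Γ(S, ⊤) Γ(X, ⊤))).toAlgebra
  haveI : IsScalarTower Γ(S, ⊤) Γ(X, ⊤) Γ(D.obj.left, ⊤) :=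
    IsScalarTower.of_algebraMap_eq (fun _ => rfl)
  haveI : Module.FaithfullyFlat Γ(S, ⊤) Γ(X, ⊤) :=
    (Flat.flat_and_surjective_iff_faithfullyFlat_of_isAffine (f := p)).mp
      ⟨inferInstance, inferInstance⟩
  let eS : S ≅ Spec (CommRingCat.of Γ(S, ⊤)) := S.isoSpec
  let eX : X ≅ Spec (CommRingCat.of Γ(X, ⊤)) := X.isoSpec
  have nX : eX.hom ≫ pMap Γ(S, ⊤) Γ(X, ⊤) = p ≫ eS.hom := Scheme.isoSpec_hom_naturality p
  have nX' : pMap Γ(S, ⊤) Γ(X, ⊤) ≫ eS.inv = eX.inv ≫ p := Scheme.isoSpec_inv_naturality p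
  let a' : D.obj.left ⟶ Spec (CommRingCat.of Γ(X, ⊤)) := D.obj.hom ≫ eX.hom
  let j : D.obj.left ⟶ Spec (CommRingCat.of Γ(D.obj.left, ⊤)) := D.obj.left.toSpecΓ
  have hj : j ≫ aMap Γ(X, ⊤) Γ(D.obj.left, ⊤) = a' := by
    change D.obj.left.toSpecΓ ≫ Spec.map D.obj.hom.appTop = D.obj.hom ≫ X.isoSpec.hom
    rw [Scheme.isoSpec_hom, Scheme.toSpecΓ_naturality]
  haveI : IsIso j.appTop := by
    change IsIso D.obj.left.toSpecΓ.appTop
    rw [Scheme.toSpecΓ_appTop]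
    infer_instance
  haveI : IsOpenImmersion j := inferInstanceAs (IsOpenImmersion D.obj.left.toSpecΓ)
  haveI : CompactSpace D.obj.left := inferInstance
  haveI : QuasiSeparatedSpace D.obj.left := inferInstance
  have hcompat : ∀ {T : Scheme.{u}} (v : T ⟶ D.obj.left)
      (x : T ⟶ Spec (CommRingCat.of Γ(X, ⊤))),
      v ≫ a' ≫ pMap Γ(S, ⊤) Γ(X, ⊤) = x ≫ pMap Γ(S, ⊤) Γ(X, ⊤) →
      (v ≫ D.obj.hom) ≫ p = (x ≫ eX.inv) ≫ p := by
    intro T v x h
    have h1 : v ≫ D.obj.hom ≫ p ≫ eS.hom = x ≫ pMap Γ(S, ⊤) Γ(X, ⊤) := by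
      rw [← nX, ← h]
      simp only [a', Category.assoc]
    have h2 := congrArg (· ≫ eS.inv) h1
    simp only [Category.assoc, Iso.hom_inv_id, Category.comp_id] at h2
    rw [Category.assoc, h2, nX', Category.assoc]
  let DA : GenDD Γ(S, ⊤) a' :=
    { Φ := fun v x h => tr D v (x ≫ eX.inv) (hcompat v x h)
      Φ_over := by
        intro T v x h
        change tr D v (x ≫ eX.inv) (hcompat v x h) ≫ D.obj.hom ≫ eX.hom = x
        rw [tr_hom_assoc, Category.assoc, Iso.inv_hom_id, Category.comp_id]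
      Φ_natural := by
        intro T T' g v x h h'
        rw [precomp_tr]
        exact tr_congr D rfl (Category.assoc _ _ _).symm _ _
      Φ_self := by
        intro T v h
        apply tr_self'
        change (v ≫ D.obj.hom ≫ eX.hom) ≫ eX.inv = v ≫ D.obj.hom
        rw [Category.assoc, Category.assoc, Iso.hom_inv_id, Category.comp_id]
      Φ_comp := by
        intro T v x₁ x₂ h₁ h₂ h₃
        exact tr_tr D v _ _ _ _ }
  obtain ⟨U, i, ε, sq, hU, hinv⟩ := exists_quasiAffine_descent_core DA j hj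
  refine ⟨U, i ≫ eS.inv, ε, hU, ?_⟩
  apply isQuot_of_isPullback
  · refine sq.of_iso (Iso.refl _) eX.symm (Iso.refl _) eS.symm ?_ ?_ ?_ ?_
    · simp [a']
    · simp
    · exact nX'
    · simp
  · intro T v x₁ h
    have h' : v ≫ a' ≫ pMap Γ(S, ⊤) Γ(X, ⊤) = (x₁ ≫ eX.hom) ≫ pMap Γ(S, ⊤) Γ(X, ⊤) := by
      change v ≫ (D.obj.hom ≫ eX.hom) ≫ pMap Γ(S, ⊤) Γ(X, ⊤) = _
      rw [Category.assoc, Category.assoc, nX]
      simp only [Category.assoc] at h
      rw [reassoc_of% h]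
    have key := hinv v (x₁ ≫ eX.hom) h'
    refine Eq.trans ?_ key
    congr 1
    exact tr_congr D rfl (by rw [Category.assoc, Iso.hom_inv_id, Category.comp_id]) _ _

end Groth.Agent.H40.DG
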