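import Groth.Agent.H40.DQ.Effective

/-!
# Sub-descent data along a stable monomorphism, orbits and stable subsets
-/

set_option autoImplicit false
set_option backward.isDefEq.respectTransparency.types false
universe u

open CategoryTheory CategoryTheory.Limits AlgebraicGeometry

namespace Groth.Agent.H40.DG

open Desc Groth.Agent.H40.DQ

variable {X S : Scheme.{u}} {p : X ⟶ S}

/-- a morphism of descent data commutes with transport. -/
theorem hom_tr {D₁ D₂ : Desc.SchDD p} (b : D₁ ⟶ D₂) {T : Scheme.{u}} (v : T ⟶ D₁.obj.left)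
    (x₁ : T ⟶ X) (h : (v ≫ D₁.obj.hom) ≫ p = x₁ ≫ p)
    (h' : ((v ≫ b.hom.left) ≫ D₂.obj.hom) ≫ p = x₁ ≫ p) :
    tr D₁ v x₁ h ≫ b.hom.left = tr D₂ (v ≫ b.hom.left) x₁ h' := by
  have e : (v ≫ b.hom.left) ≫ D₂.obj.hom = v ≫ D₁.obj.hom := by
    rw [Category.assoc, Over.w b.hom]
  have key := b.comm (v ≫ D₁.obj.hom) x₁ h ⟨v, rfl⟩ ⟨v ≫ b.hom.left, e⟩ rfl
  refine Eq.trans key.symm ?_
  unfold tr
  exact phi_congr D₂ e.symm rfl _ _ _ _ rfl

/-- a morphism between the underlying schemes of two descent data which becomes a morphism of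
descent data after composition with a morphism of descent data with monic underlying morphism is
a morphism of descent data. -/
noncomputable def liftHom {D₁ D₂ D : Desc.SchDD p} (a : D₁ ⟶ D) (b : D₂ ⟶ D) [Mono b.hom.left]
    (f : D₁.obj.left ⟶ D₂.obj.left) (hf : f ≫ b.hom.left = a.hom.left) : D₁ ⟶ D₂ where
  hom := Over.homMk f (by
    rw [← Over.w b.hom, reassoc_of% hf, Over.w a.hom])
  comm := by
    intro T x₀ x₁ h v w hw
    have hw' : w.1 = v.1 ≫ f := hw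
    change (D₂.φ x₀ x₁ h w).1 = (D₁.φ x₀ x₁ h v).1 ≫ f
    rw [← cancel_mono b.hom.left, Category.assoc, hf]
    have h1 := a.comm x₀ x₁ h v (a.push v) rfl
    have h2 := b.comm x₀ x₁ h w (b.push w) rfl
    rw [← h1, ← h2]
    congr 2
    apply Subtype.ext
    change w.1 ≫ b.hom.left = v.1 ≫ a.hom.left
    rw [hw', Category.assoc, hf]

@[simp]
theorem liftHom_left {D₁ D₂ D : Desc.SchDD p} (a : D₁ ⟶ D) (b : D₂ ⟶ D) [Mono b.hom.left]
    (f : D₁.obj.left ⟶ D₂.obj.left) (hf : f ≫ b.hom.left = a.hom.left) :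
    (liftHom a b f hf).hom.left = f := rfl

section Sub

variable (D : Desc.SchDD p) {V' : Scheme.{u}} (j : V' ⟶ D.obj.left) [Mono j]

/-- stability of a monomorphism under transport. -/
def StableMono : Prop :=
  ∀ ⦃T : Scheme.{u}⦄ (v : T ⟶ V') (x₁ : T ⟶ X) (h : ((v ≫ j) ≫ D.obj.hom) ≫ p = x₁ ≫ p),
    ∃ v' : T ⟶ V', v' ≫ j = tr D (v ≫ j) x₁ h

variable {D j}

/-- transport inside a stable subobject. -/
noncomputable def str (hst : StableMono D j) {T : Scheme.{u}} (v : T ⟶ V') (x₁ : T ⟶ X)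
    (h : ((v ≫ j) ≫ D.obj.hom) ≫ p = x₁ ≫ p) : T ⟶ V' := (hst v x₁ h).choose

@[reassoc]
theorem str_j (hst : StableMono D j) {T : Scheme.{u}} (v : T ⟶ V') (x₁ : T ⟶ X)
    (h : ((v ≫ j) ≫ D.obj.hom) ≫ p = x₁ ≫ p) : str hst v x₁ h ≫ j = tr D (v ≫ j) x₁ h :=
  (hst v x₁ h).choose_spec

theorem sub_aux {T : Scheme.{u}} {x₀ x₁ : T ⟶ X} (h : x₀ ≫ p = x₁ ≫ p)
    (v : Lifts (Over.mk (j ≫ D.obj.hom)) x₀) : ((v.1 ≫ j) ≫ D.obj.hom) ≫ p = x₁ ≫ p := by
  have : (v.1 ≫ j) ≫ D.obj.hom = x₀ := by rw [Category.assoc]; exact v.2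
  rw [this, h]

/-- one direction of the gluing bijection of the sub-descent datum. -/
noncomputable def subφ (hst : StableMono D j) {T : Scheme.{u}} (x₀ x₁ : T ⟶ X)
    (h : x₀ ≫ p = x₁ ≫ p) (v : Lifts (Over.mk (j ≫ D.obj.hom)) x₀) :
    Lifts (Over.mk (j ≫ D.obj.hom)) x₁ :=
  ⟨str hst v.1 x₁ (sub_aux h v), by
    change str hst v.1 x₁ (sub_aux h v) ≫ j ≫ D.obj.hom = x₁
    rw [str_j_assoc, tr_hom]⟩

theorem subφ_j (hst : StableMono D j) {T : Scheme.{u}} (x₀ x₁ : T ⟶ X)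
    (h : x₀ ≫ p = x₁ ≫ p) (v : Lifts (Over.mk (j ≫ D.obj.hom)) x₀) :
    (subφ hst x₀ x₁ h v).1 ≫ j = tr D (v.1 ≫ j) x₁ (sub_aux h v) := str_j hst _ _ _

theorem subφ_subφ (hst : StableMono D j) {T : Scheme.{u}} (x₀ x₁ x₂ : T ⟶ X)
    (h : x₀ ≫ p = x₁ ≫ p) (h' : x₁ ≫ p = x₂ ≫ p) (v : Lifts (Over.mk (j ≫ D.obj.hom)) x₀) :
    subφ hst x₁ x₂ h' (subφ hst x₀ x₁ h v) = subφ hst x₀ x₂ (h.trans h') v := by
  apply Subtype.ext
  rw [← cancel_mono j]
  have h₂ : (tr D (v.1 ≫ j) x₁ (sub_aux h v) ≫ D.obj.hom) ≫ p = x₂ ≫ p := by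
    rw [tr_hom, h']
  refine Eq.trans (subφ_j hst x₁ x₂ h' _) ?_
  refine Eq.trans ?_ (subφ_j hst x₀ x₂ _ v).symm
  refine Eq.trans (tr_congr D (subφ_j hst x₀ x₁ h v) rfl _ h₂) ?_
  exact tr_tr D (v.1 ≫ j) x₁ x₂ (sub_aux h v) h₂

theorem subφ_self (hst : StableMono D j) {T : Scheme.{u}} (x : T ⟶ X)
    (v : Lifts (Over.mk (j ≫ D.obj.hom)) x) : subφ hst x x rfl v = v := by
  apply Subtype.ext
  rw [← cancel_mono j, subφ_j]
  apply tr_self'
  have : v.1 ≫ j ≫ D.obj.hom = x := v.2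
  rw [Category.assoc, this]

variable (D j) in
/-- the sub-descent datum on a stable subobject. -/
noncomputable def subDD (hst : StableMono D j) : Desc.SchDD p where
  obj := Over.mk (j ≫ D.obj.hom)
  φ T x₀ x₁ h :=
    { toFun := subφ hst x₀ x₁ h
      invFun := subφ hst x₁ x₀ h.symm
      left_inv := fun v => by rw [subφ_subφ, subφ_self]
      right_inv := fun v => by rw [subφ_subφ, subφ_self] }
  φ_natural T T' g x₀ x₁ h h' v v' hv' := by
    change (subφ hst (g ≫ x₀) (g ≫ x₁) h' v').1 = g ≫ (subφ hst x₀ x₁ h v).1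
    rw [← cancel_mono j, subφ_j, Category.assoc, subφ_j, precomp_tr]
    refine tr_congr D ?_ rfl _ _
    rw [hv', Category.assoc]
  φ_self T x v := subφ_self hst x v
  φ_comp T x₀ x₁ x₂ h₀₁ h₁₂ v := subφ_subφ hst x₀ x₁ x₂ h₀₁ h₁₂ v

@[simp] theorem subDD_left (hst : StableMono D j) : (subDD D j hst).obj.left = V' := rfl

@[simp] theorem subDD_hom (hst : StableMono D j) : (subDD D j hst).obj.hom = j ≫ D.obj.hom := rfl

variable (D j) in
/-- the inclusion of the sub-descent datum. -/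
noncomputable def subι (hst : StableMono D j) : subDD D j hst ⟶ D where
  hom := Over.homMk j rfl
  comm := by
    intro T x₀ x₁ h v w hw
    have hw' : w.1 = v.1 ≫ j := hw
    change (D.φ x₀ x₁ h w).1 = (subφ hst x₀ x₁ h v).1 ≫ j
    rw [subφ_j, tr_eq_phi]
    exact tr_congr D hw' rfl _ _

@[simp] theorem subι_left (hst : StableMono D j) : (subι D j hst).hom.left = j := rfl

instance (hst : StableMono D j) : Mono (subι D j hst).hom.left :=
  inferInstanceAs (Mono j)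

theorem tr_sub (hst : StableMono D j) {T : Scheme.{u}} (v : T ⟶ V') (x₁ : T ⟶ X)
    (h0 : (v ≫ (subDD D j hst).obj.hom) ≫ p = x₁ ≫ p)
    (h : ((v ≫ j) ≫ D.obj.hom) ≫ p = x₁ ≫ p) :
    tr (subDD D j hst) v x₁ h0 ≫ j = tr D (v ≫ j) x₁ h :=
  hom_tr (subι D j hst) v x₁ h0 h

end Sub

section Orb

variable (D : Desc.SchDD p)

/-- the inverse of the relation `R = V ×_S X`. -/
noncomputable def invR : RL D ⟶ RL D :=
  pullback.lift (tmor D) (pullback.fst (D.obj.hom ≫ p) p ≫ D.obj.hom) (by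
    rw [tmor_hom_assoc, Category.assoc, pullback.condition])

@[reassoc (attr := simp)]
theorem invR_fst : invR D ≫ pullback.fst (D.obj.hom ≫ p) p = tmor D := pullback.lift_fst _ _ _

@[reassoc (attr := simp)]
theorem invR_snd : invR D ≫ pullback.snd (D.obj.hom ≫ p) p =
    pullback.fst (D.obj.hom ≫ p) p ≫ D.obj.hom := pullback.lift_snd _ _ _

@[reassoc (attr := simp)]
theorem invR_tmor : invR D ≫ tmor D = pullback.fst (D.obj.hom ≫ p) p := by
  rw [comp_tmor]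
  have h₁ : (pullback.fst (D.obj.hom ≫ p) p ≫ D.obj.hom) ≫ p =
      pullback.snd (D.obj.hom ≫ p) p ≫ p := tmor_aux D
  have h₂ : (tr D (pullback.fst (D.obj.hom ≫ p) p) (pullback.snd (D.obj.hom ≫ p) p) h₁ ≫
      D.obj.hom) ≫ p = (pullback.fst (D.obj.hom ≫ p) p ≫ D.obj.hom) ≫ p := by
    rw [tr_hom, h₁]
  refine Eq.trans (tr_congr D (invR_fst D) (invR_snd D) _ h₂) ?_
  refine Eq.trans (tr_tr D _ _ _ h₁ h₂) ?_
  exact tr_self D _

/-- two points of `V` are in the same orbit. -/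
def Orb (v w : D.obj.left) : Prop :=
  ∃ r : RL D, pullback.fst (D.obj.hom ≫ p) p r = v ∧ tmor D r = w

variable {D}

theorem Orb.symm {v w : D.obj.left} (h : Orb D v w) : Orb D w v := by
  obtain ⟨r, rfl, rfl⟩ := h
  refine ⟨invR D r, ?_, ?_⟩
  · rw [← Scheme.Hom.comp_apply, invR_fst]
  · rw [← Scheme.Hom.comp_apply, invR_tmor]

variable (D) in
/-- a subset of `V` stable under the relation. -/
def IsStable (A : Set D.obj.left) : Prop :=
  ∀ r : RL D, pullback.fst (D.obj.hom ≫ p) p r ∈ A → tmor D r ∈ A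

theorem IsStable.mem_iff {A : Set D.obj.left} (hA : IsStable D A) {v w : D.obj.left}
    (h : Orb D v w) : v ∈ A ↔ w ∈ A := by
  constructor
  · intro hv
    obtain ⟨r, rfl, rfl⟩ := h
    exact hA r hv
  · intro hw
    obtain ⟨r, rfl, rfl⟩ := h.symm
    exact hA r hw

theorem IsStable.inter {A B : Set D.obj.left} (hA : IsStable D A) (hB : IsStable D B) :
    IsStable D (A ∩ B) := fun r hr => ⟨hA r hr.1, hB r hr.2⟩

/-- transport of a `T`-point, evaluated at a point of `T`. -/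
theorem tr_apply {T : Scheme.{u}} (v : T ⟶ D.obj.left) (x₁ : T ⟶ X)
    (h : (v ≫ D.obj.hom) ≫ p = x₁ ≫ p) (t : T) : Orb D (v t) (tr D v x₁ h t) := by
  refine ⟨pullback.lift v x₁ (by rw [← Category.assoc]; exact h) t, ?_, ?_⟩
  · rw [← Scheme.Hom.comp_apply, pullback.lift_fst]
  · rw [← Scheme.Hom.comp_apply, lift_tmor]

/-- the range of a morphism of descent data is stable. -/
theorem isStable_range {D' : Desc.SchDD p} (b : D' ⟶ D) : IsStable D (Set.range b.hom.left) := by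
  rintro r ⟨v', hv'⟩
  obtain ⟨z, hz1, hz2⟩ := Scheme.Pullback.exists_preimage_pullback
    (f := b.hom.left) (g := pullback.fst (D.obj.hom ≫ p) p) v' r hv'
  let vT := pullback.fst b.hom.left (pullback.fst (D.obj.hom ≫ p) p)
  let rT := pullback.snd b.hom.left (pullback.fst (D.obj.hom ≫ p) p)
  have hc : vT ≫ b.hom.left = rT ≫ pullback.fst (D.obj.hom ≫ p) p := pullback.condition
  have h' : ((vT ≫ b.hom.left) ≫ D.obj.hom) ≫ p = (rT ≫ pullback.snd (D.obj.hom ≫ p) p) ≫ p := by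
    rw [hc]
    simp only [Category.assoc]
    rw [pullback.condition]
  have e : (vT ≫ b.hom.left) ≫ D.obj.hom = vT ≫ D'.obj.hom := by
    rw [Category.assoc, Over.w b.hom]
  have h : (vT ≫ D'.obj.hom) ≫ p = (rT ≫ pullback.snd (D.obj.hom ≫ p) p) ≫ p := by
    rw [← e]
    exact h'
  have key : rT ≫ tmor D = tr D' vT (rT ≫ pullback.snd (D.obj.hom ≫ p) p) h ≫ b.hom.left := by
    rw [hom_tr b vT _ h h', comp_tmor]
    exact tr_congr D hc.symm rfl _ _
  refine ⟨tr D' vT (rT ≫ pullback.snd (D.obj.hom ≫ p) p) h z, ?_⟩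
  rw [← Scheme.Hom.comp_apply, ← key, Scheme.Hom.comp_apply, hz2]

/-- an open subset stable under the relation gives a stable monomorphism. -/
theorem stableMono_of_isStable (W : D.obj.left.Opens) (hW : IsStable D (W : Set D.obj.left)) :
    StableMono D W.ι := by
  intro T v x₁ h
  refine ⟨IsOpenImmersion.lift W.ι (tr D (v ≫ W.ι) x₁ h) ?_, IsOpenImmersion.lift_fac _ _ _⟩
  rw [Scheme.Opens.range_ι]
  rintro _ ⟨t, rfl⟩
  have ho := tr_apply (v ≫ W.ι) x₁ h t
  refine (hW.mem_iff ho).mp ?_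
  rw [Scheme.Hom.comp_apply]
  exact (v t).2

end Orb

end Groth.Agent.H40.DG
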